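import Groth.Agent.CAlgUI.DescentProj
import Groth.Agent.QCart13.Alg

/-!
# Projectivity descends along a finite jointly surjective flat family
-/

set_option autoImplicit false

noncomputable section

universe u w

open TensorProduct

namespace Groth.Agent.ProjDescent13

open Groth.Agent.QCart13

/-- Projectivity is transported along isomorphisms of rings. -/
theorem projective_semilinear {A B : Type*} [CommRing A] [CommRing B] {M N : Type*} [AddCommGroup M] [Module A M]
    [AddCommGroup N] [Module B N] (σ : A ≃+* B) (e : M ≃+ N) (he : ∀ a m, e (a • m) = σ a • e m)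
    [hM : Module.Projective A M] : Module.Projective B N := by
  obtain ⟨s, hs⟩ := hM
  let T : (M →₀ A) →+ (M →₀ B) := Finsupp.mapRange.addMonoidHom σ.toAddMonoidHom
  have hT : ∀ a x, T (a • x) = σ a • T x := fun a x => by
    ext m
    simp [T]
  let i : N →ₗ[B] (M →₀ B) :=
    { toFun := fun n => T (s (e.symm n))
      map_add' := fun x y => by rw [map_add, map_add, map_add]
      map_smul' := fun b n => by
        have h : e.symm (b • n) = σ.symm b • e.symm n :=
          e.injective (by rw [he, RingEquiv.apply_symm_apply, AddEquiv.apply_symm_apply, AddEquiv.apply_symm_apply])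
        rw [h, map_smul, hT, RingEquiv.apply_symm_apply]
        rfl }
  refine Module.Projective.of_split i (Finsupp.linearCombination B e) (LinearMap.ext fun n => ?_)
  have key : ∀ x : M →₀ A, Finsupp.linearCombination B e (T x) = e (Finsupp.linearCombination A id x) := by
    intro x
    induction x using Finsupp.induction_linear with
    | zero => simp
    | add x y hx hy => simp only [map_add, hx, hy]
    | single m a => simp [T, he]
  refine (key (s (e.symm n))).trans ?_
  rw [hs, AddEquiv.apply_symm_apply]
  rfl

section pi

variable {ι : Type} [Fintype ι] [DecidableEq ι] {C : ι → Type u} [∀ i, CommRing (C i)]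

/-- A projective module over a factor is projective over the product. -/
theorem projective_compHom_eval (i : ι) {N : Type w} [AddCommGroup N] [Module (C i) N]
    [hN : Module.Projective (C i) N] :
    letI : Module (∀ j, C j) N := Module.compHom N (Pi.evalRingHom C i)
    Module.Projective (∀ j, C j) N := by
  letI : Module (∀ j, C j) N := Module.compHom N (Pi.evalRingHom C i)
  obtain ⟨s, hs⟩ := hN
  let T : (N →₀ C i) →+ (N →₀ (∀ j, C j)) :=
    Finsupp.mapRange.addMonoidHom (AddMonoidHom.single C i)
  have hT : ∀ (a : ∀ j, C j) x, T (a i • x) = a • T x := fun a x => by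
    refine Finsupp.ext fun m => ?_
    funext j
    rcases eq_or_ne j i with rfl | h
    · simp [T]
    · simp [T, h]
  let l : N →ₗ[∀ j, C j] (N →₀ (∀ j, C j)) :=
    { toFun := fun n => T (s n)
      map_add' := fun x y => by rw [map_add, map_add]
      map_smul' := fun a n => by
        change T (s (a i • n)) = a • T (s n)
        rw [map_smul, hT] }
  refine Module.Projective.of_split l (Finsupp.linearCombination (∀ j, C j) id) (LinearMap.ext fun n => ?_)
  have key : ∀ x : N →₀ C i, Finsupp.linearCombination (∀ j, C j) id (T x) = Finsupp.linearCombination (C i) id x := by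
    intro x
    induction x using Finsupp.induction_linear with
    | zero => simp
    | add x y hx hy => simp only [map_add, hx, hy]
    | single m a =>
      simp only [T, Finsupp.mapRange.addMonoidHom_apply, Finsupp.mapRange_single, Finsupp.linearCombination_single]
      change (Pi.single i a : ∀ j, C j) i • m = a • m
      rw [Pi.single_eq_same]
  exact (key (s n)).trans (hs n)

variable {A : Type u} [CommRing A] [∀ i, Algebra A (C i)] {M : Type u} [AddCommGroup M] [Module A M]

/-- The projection of an extension to the product. -/
def projT (i : ι) : (∀ j, C j) ⊗[A] M →ₗ[A] C i ⊗[A] M := (LinearMap.proj i : (∀ j, C j) →ₗ[A] C i).rTensor M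

/-- An extension to the product is projective if the extensions to the factors are. -/
theorem projective_pi [∀ i, Module.Projective (C i) (C i ⊗[A] M)] :
    Module.Projective (∀ j, C j) ((∀ j, C j) ⊗[A] M) := by
  letI : ∀ i, Module (∀ j, C j) (C i ⊗[A] M) := fun i => Module.compHom _ (Pi.evalRingHom C i)
  haveI : ∀ i, Module.Projective (∀ j, C j) (C i ⊗[A] M) := fun i => projective_compHom_eval i
  let fwd : (∀ j, C j) ⊗[A] M →ₗ[∀ j, C j] (∀ i, C i ⊗[A] M) :=
    { toFun := fun x i => projT i x
      map_add' := fun x y => funext fun i => map_add _ x y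
      map_smul' := fun a x => funext fun i => by
        change projT i (a • x) = a i • projT i x
        induction x using TensorProduct.induction_on with
        | zero => simp
        | tmul c m => rfl
        | add x y hx hy => simp only [smul_add, map_add, hx, hy] }
  let bwd : (∀ i, C i ⊗[A] M) → (∀ j, C j) ⊗[A] M := fun y =>
    ∑ i, (LinearMap.single A C i).rTensor M (y i)
  have h1 : ∀ x, bwd (fwd x) = x := fun x => by
    induction x using TensorProduct.induction_on with
    | zero => simp [bwd]
    | tmul c m =>
      change ∑ i, (LinearMap.single A C i).rTensor M (c i ⊗ₜ m) = _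
      simp only [LinearMap.rTensor_tmul]
      rw [← TensorProduct.sum_tmul]
      congr 1
      exact Finset.univ_sum_single c
    | add x y hx hy => simp only [bwd, map_add, Pi.add_apply, Finset.sum_add_distrib] at hx hy ⊢; rw [hx, hy]
  have h2 : ∀ y i, projT i (bwd y) = y i := fun y i => by
    simp only [bwd, map_sum]
    rw [Finset.sum_eq_single i]
    · rw [projT, ← LinearMap.rTensor_comp_apply]
      have : (LinearMap.proj i : (∀ j, C j) →ₗ[A] C i) ∘ₗ LinearMap.single A C i = LinearMap.id :=
        LinearMap.ext fun c => Pi.single_eq_same i c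
      rw [this, LinearMap.rTensor_id, LinearMap.id_apply]
    · intro j _ hj
      rw [projT, ← LinearMap.rTensor_comp_apply]
      have : (LinearMap.proj i : (∀ j, C j) →ₗ[A] C i) ∘ₗ LinearMap.single A C j = 0 :=
        LinearMap.ext fun c => Pi.single_eq_of_ne (Ne.symm hj) c
      rw [this, LinearMap.rTensor_zero, LinearMap.zero_apply]
    · intro h; exact absurd (Finset.mem_univ i) h
  have hbij : Function.Bijective fwd :=
    ⟨fun x y h => by rw [← h1 x, ← h1 y, h], fun y => ⟨bwd y, funext fun i => h2 y i⟩⟩
  haveI : Module.Projective (∀ j, C j) (∀ i, C i ⊗[A] M) :=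
    Module.Projective.of_equiv' (DirectSum.linearEquivFunOnFintype (∀ j, C j) ι fun i => C i ⊗[A] M)
  exact Module.Projective.of_equiv' (LinearEquiv.ofBijective fwd hbij).symm

theorem faithfullyFlat_pi [∀ i, Module.Flat A (C i)] (hC : JointlySurj C A) :
    Module.FaithfullyFlat A (∀ j, C j) := by
  haveI : Module.Flat A (∀ j, C j) := Module.Flat.of_linearEquiv (DirectSum.linearEquivFunOnFintype A ι C).symm
  rw [Module.FaithfullyFlat.iff_flat_and_lTensor_reflects_triviality]
  refine ⟨inferInstance, fun N _ _ h => ⟨fun x y => sub_eq_zero.1 (eq_zero_of_forall_tmul hC _ fun k => ?_)⟩⟩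
  have e : (1 : ∀ j, C j) ⊗ₜ[A] (x - y) = (0 : (∀ j, C j) ⊗[A] N) := Subsingleton.elim _ _
  have := congrArg ((LinearMap.proj k : (∀ j, C j) →ₗ[A] C k).rTensor N) e
  rw [LinearMap.rTensor_tmul, map_zero] at this
  exact this

/-- Descent of projectivity. -/
theorem projective_of_local [∀ i, Module.Flat A (C i)] (hC : JointlySurj C A)
    [∀ i, Module.Projective (C i) (C i ⊗[A] M)] : Module.Projective A M :=
  haveI := faithfullyFlat_pi hC
  haveI := projective_pi (A := A) (M := M) (C := C)
  CAlgUI.projective_descent (S := ∀ j, C j)

end pi

end Groth.Agent.ProjDescent13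

end
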