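import Groth.Agent.ProjDescent13.Main
import Groth.Agent.QCart13.Gen
import Groth.Agent.QCoh.Qcqs
import Mathlib.Logic.Small.Basic
import Mathlib.Algebra.Module.Shrink

/-!
# Zariski companions of small quasi-coherent modules
-/

set_option autoImplicit false
set_option backward.isDefEq.respectTransparency false
set_option backward.isDefEq.respectTransparency.types false

noncomputable section

universe u

open CategoryTheory CategoryTheory.Limits AlgebraicGeometry Opposite AlgSp TopologicalSpace TensorProduct
open Groth.Agent.QCart13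

namespace Groth.Agent.ProjDescent13

/-- A localisation away from an element is transported along isomorphisms of rings. -/
theorem away_transport {A A' B B' : Type*} [CommRing A] [CommRing A'] [CommRing B] [CommRing B'] [Algebra A B]
    [Algebra A' B'] (e : A ≃+* A') (e' : B ≃+* B') (comm : ∀ a, e' (algebraMap A B a) = algebraMap A' B' (e a))
    (f : A) [IsLocalization.Away f B] : IsLocalization.Away (e f) B' := by
  refine IsLocalization.Away.mk (e f) ?_ (fun z => ?_) fun a b h => ?_
  · rw [← comm]
    exact (IsLocalization.Away.algebraMap_isUnit (S := B) f).map e'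
  · obtain ⟨n, a, h⟩ := IsLocalization.Away.surj f (e'.symm z)
    refine ⟨n, e a, ?_⟩
    rw [← comm, ← comm, ← map_pow, ← h, map_mul, RingEquiv.apply_symm_apply, map_pow]
  · have h1 : algebraMap A B (e.symm a) = algebraMap A B (e.symm b) :=
      e'.injective (by rw [comm, comm, RingEquiv.apply_symm_apply, RingEquiv.apply_symm_apply, h])
    obtain ⟨n, hn⟩ := IsLocalization.Away.exists_of_eq (S := B) f h1
    refine ⟨n, ?_⟩
    have h2 := congrArg e hn
    rwa [map_mul, map_mul, map_pow, RingEquiv.apply_symm_apply, RingEquiv.apply_symm_apply] at h2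

variable {S : Scheme.{u}} {X : Sp S} (G : ModEt X) {U : Over S} (p : (yon S).obj U ⟶ X) (hp : RepWith @Etale p)

/-- An inclusion of opens of a chart. -/
def openMap {W W' : U.left.Opens} (h : W' ≤ W) : openObj p hp W' ⟶ openObj p hp W :=
  (EtOver.postcomp p (isEtaleMor_chart p hp)).map ((EtOver.ofScheme U).map (etaleOfLE h))

theorem openMap_left {W W' : U.left.Opens} (h : W' ≤ W) :
    (openMap p hp h).hom.left.left = U.left.homOfLE h := rfl

theorem openMap_comp {W W' W'' : U.left.Opens} (h : W' ≤ W) (h' : W'' ≤ W') :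
    openMap p hp (h'.trans h) = openMap p hp h' ≫ openMap p hp h :=
  EtOver.hom_ext _ _ (Over.OverMorphism.ext (U.left.homOfLE_homOfLE h' h).symm)

theorem openMap_refl (W : U.left.Opens) : openMap p hp (le_refl W) = 𝟙 _ :=
  EtOver.hom_ext _ _ (Over.OverMorphism.ext (by
    change U.left.homOfLE (le_refl W) = 𝟙 _
    exact Scheme.homOfLE_rfl _ _))

/-- The sections of a module over an open of a chart. -/
def Sec (W : U.left.Opens) : Type (u + 1) := sectModEt G (openObj p hp W)

instance (W : U.left.Opens) : AddCommGroup (Sec G p hp W) := inferInstanceAs (AddCommGroup (sectModEt G (openObj p hp W)))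

instance (W : U.left.Opens) : Module Γ(U.left, W) (Sec G p hp W) :=
  Module.compHom (R := Fn (openObj p hp W)) (sectModEt G (openObj p hp W))
    (W.topIso.inv.hom : Γ(U.left, W) →+* Fn (openObj p hp W))

/-- Restriction of sections. -/
def sres {W W' : U.left.Opens} (h : W' ≤ W) : Sec G p hp W →+ Sec G p hp W' := res G (openMap p hp h)

theorem sres_smul {W W' : U.left.Opens} (h : W' ≤ W) (a : Γ(U.left, W)) (x : Sec G p hp W) :
    sres G p hp h (a • x) = (U.left.presheaf.map (homOfLE h).op a) • sres G p hp h x := by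
  refine (res_smul G (openMap p hp h) (W.topIso.inv a) x).trans ?_
  refine congrArg (fun t : Fn (openObj p hp W') => t • res G (openMap p hp h) x) ?_
  change (W.topIso.inv ≫ (U.left.homOfLE h).appTop) a = (U.left.presheaf.map (homOfLE h).op ≫ W'.topIso.inv) a
  congr 2
  rw [Scheme.homOfLE_appTop, Scheme.Opens.topIso_inv, Scheme.Opens.topIso_inv, ← Functor.map_comp, ← Functor.map_comp]
  rfl

section cover

variable {p hp} {ι : Type*} {W : U.left.Opens} (Wi : ι → U.left.Opens) (hle : ∀ i, Wi i ≤ W)
  (hcov : W ≤ iSup Wi)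

include hcov in
theorem ofArrows_openMap_mem :
    Sieve.ofArrows (fun i => openObj p hp (Wi i)) (fun i => openMap p hp (hle i)) ∈ etTop X (openObj p hp W) := by
  refine AlgSpDec.ofArrows_mem_etTop _ _ fun x => ?_
  obtain ⟨i, hi⟩ := Opens.mem_iSup.1 (hcov (show (W.ι x : U.left) ∈ W from x.2))
  refine ⟨i, (⟨W.ι x, hi⟩ : (Wi i).toScheme), ?_⟩
  refine W.ι.isOpenEmbedding.injective ?_
  change (U.left.homOfLE (hle i) ≫ W.ι) _ = _
  rw [Scheme.homOfLE_ι]
  rfl

include hcov in
theorem sec_ext {x y : Sec G p hp W} (h : ∀ i, sres G p hp (hle i) x = sres G p hp (hle i) y) : x = y := by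
  refine sub_eq_zero.1 (Gen.eq_zero_of_local G (W := openObj p hp W) (x - y)
    (ofArrows_openMap_mem Wi hle hcov) fun V g hg => ?_)
  obtain ⟨i, k, rfl⟩ := (Sieve.mem_ofArrows_iff _ _ _).1 hg
  rw [Gen.map_comp_apply]
  refine Eq.trans (congrArg (Gen.mres G k) ?_) (map_zero _)
  change res G (openMap p hp (hle i)) (x - y) = 0
  rw [map_sub, sub_eq_zero]
  exact h i

include hcov in
theorem sec_glue (x : ∀ i, Sec G p hp (Wi i))
    (h : ∀ i j, sres G p hp (inf_le_left : Wi i ⊓ Wi j ≤ Wi i) (x i) =
      sres G p hp (inf_le_right : Wi i ⊓ Wi j ≤ Wi j) (x j)) :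
    ∃ y : Sec G p hp W, ∀ i, sres G p hp (hle i) y = x i := by
  have hS := (isSheaf_iff_isSheaf_of_type _ _).1
    ((Presheaf.isSheaf_iff_isSheaf_forget (etTop X) G.val.presheaf (forget AddCommGrpCat.{u + 1})).1 G.isSheaf) _
    (ofArrows_openMap_mem (p := p) (hp := hp) Wi hle hcov)
  rw [← Presieve.isSheafFor_iff_generate, Presieve.isSheafFor_arrows_iff] at hS
  refine (hS x fun i j V a b hab => ?_).exists
  have hab' : a.hom.left.left ≫ (Wi i).ι = b.hom.left.left ≫ (Wi j).ι := by
    have h1 := congrArg (fun k : V ⟶ openObj p hp W => k.hom.left.left ≫ W.ι) hab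
    change (a.hom.left.left ≫ (openMap p hp (hle i)).hom.left.left) ≫ W.ι =
      (b.hom.left.left ≫ (openMap p hp (hle j)).hom.left.left) ≫ W.ι at h1
    rwa [openMap_left, openMap_left, Category.assoc, Category.assoc, Scheme.homOfLE_ι, Scheme.homOfLE_ι] at h1
  have hr : Set.range (a.hom.left.left ≫ (Wi i).ι) ⊆ Set.range (Wi i ⊓ Wi j).ι := by
    rw [Scheme.Opens.range_ι]
    rintro _ ⟨v, rfl⟩
    refine ⟨(a.hom.left.left v).2, ?_⟩
    rw [hab']
    exact (b.hom.left.left v).2
  let c₀ : V.obj.left.left ⟶ (Wi i ⊓ Wi j).toScheme :=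
    IsOpenImmersion.lift (Wi i ⊓ Wi j).ι (a.hom.left.left ≫ (Wi i).ι) hr
  have hc₀ : c₀ ≫ U.left.homOfLE (inf_le_left : Wi i ⊓ Wi j ≤ Wi i) = a.hom.left.left := by
    rw [← cancel_mono (Wi i).ι, Category.assoc, Scheme.homOfLE_ι]
    exact IsOpenImmersion.lift_fac _ _ _
  have hc₁ : c₀ ≫ U.left.homOfLE (inf_le_right : Wi i ⊓ Wi j ≤ Wi j) = b.hom.left.left := by
    rw [← cancel_mono (Wi j).ι, Category.assoc, Scheme.homOfLE_ι, ← hab']
    exact IsOpenImmersion.lift_fac _ _ _
  let c₁ : V.obj.left ⟶ (openObj p hp (Wi i ⊓ Wi j)).obj.left := Over.homMk c₀ (by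
    refine Eq.trans ?_ (Over.w a.hom.left)
    rw [← hc₀, Category.assoc]
    refine congrArg (c₀ ≫ ·) ?_
    exact (Over.w (openMap p hp (inf_le_left : Wi i ⊓ Wi j ≤ Wi i)).hom.left).symm)
  have hc₂ : c₁ ≫ (openMap p hp (inf_le_left : Wi i ⊓ Wi j ≤ Wi i)).hom.left = a.hom.left :=
    Over.OverMorphism.ext hc₀
  let c : V ⟶ openObj p hp (Wi i ⊓ Wi j) := EtOver.homMk c₁ (by
    rw [← EtOver.w a, ← hc₂, Functor.map_comp, Category.assoc, EtOver.w])
  have e₁ : c ≫ openMap p hp (inf_le_left : Wi i ⊓ Wi j ≤ Wi i) = a := EtOver.hom_ext _ _ hc₂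
  have e₂ : c ≫ openMap p hp (inf_le_right : Wi i ⊓ Wi j ≤ Wi j) = b :=
    EtOver.hom_ext _ _ (Over.OverMorphism.ext hc₁)
  change res G a (x i) = res G b (x j)
  rw [← e₁, ← e₂, res_comp, res_comp]
  exact congrArg (res G c) (h i j)

end cover

variable (hsmall : ∀ E : EtOver X, Aff E → Small.{u} (sectModEt G E))

include hsmall in
theorem small_sec (W : U.left.Opens) : Small.{u} (Sec G p hp W) := by
  let ι := {W' : U.left.affineOpens // W'.1 ≤ W}
  haveI : ∀ i : ι, Small.{u} (Sec G p hp i.1.1) := fun i => hsmall _ (aff_openObj p hp i.1.2)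
  refine small_of_injective (f := fun (x : Sec G p hp W) (i : ι) => sres G p hp i.2 x) fun x y h => ?_
  refine sec_ext G (fun i : ι => i.1.1) (fun i => i.2) (fun t ht => ?_) fun i => congrFun h i
  obtain ⟨W', hW', htW', hle⟩ := exists_isAffineOpen_mem_and_subset (U := W) (x := t) ht
  exact Opens.mem_iSup.2 ⟨⟨⟨W', hW'⟩, hle⟩, htW'⟩

variable [∀ W : U.left.Opens, Small.{u} (Sec G p hp W)]

/-- The small copy of the sections. -/
abbrev SSec (W : U.left.Opens) : Type u := Shrink.{u} (Sec G p hp W)

/-- The comparison with the small copy. -/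
def se (W : U.left.Opens) : SSec G p hp W ≃ₗ[Γ(U.left, W)] Sec G p hp W := Shrink.linearEquiv Γ(U.left, W) _

/-- Restriction of the small copies. -/
def ssres {W W' : U.left.Opens} (h : W' ≤ W) : SSec G p hp W →+ SSec G p hp W' :=
  (se G p hp W').symm.toLinearMap.toAddMonoidHom.comp ((sres G p hp h).comp (se G p hp W).toLinearMap.toAddMonoidHom)

theorem se_ssres {W W' : U.left.Opens} (h : W' ≤ W) (x : SSec G p hp W) :
    se G p hp W' (ssres G p hp h x) = sres G p hp h (se G p hp W x) :=
  (se G p hp W').apply_symm_apply _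

/-- The small presheaf of sections over the opens of a chart. -/
def presh : (Opens U.left)ᵒᵖ ⥤ AddCommGrpCat.{u} where
  obj W := AddCommGrpCat.of (SSec G p hp W.unop)
  map {W W'} f := AddCommGrpCat.ofHom (ssres G p hp f.unop.le)
  map_id W := by
    refine AddCommGrpCat.hom_ext (AddMonoidHom.ext fun x => ?_)
    refine (se G p hp W.unop).injective ((se_ssres G p hp _ x).trans ?_)
    change res G (openMap p hp (le_refl W.unop)) _ = _
    rw [openMap_refl, res_id]
    rfl
  map_comp {W W' W''} f g := by
    refine AddCommGrpCat.hom_ext (AddMonoidHom.ext fun x => ?_)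
    refine (se G p hp W''.unop).injective ((se_ssres G p hp _ x).trans ?_)
    change _ = se G p hp W''.unop (ssres G p hp g.unop.le (ssres G p hp f.unop.le x))
    rw [se_ssres, se_ssres]
    change res G (openMap p hp (g.unop.le.trans f.unop.le)) _ = _
    rw [openMap_comp, res_comp]
    rfl

instance (W : (Opens U.left)ᵒᵖ) : Module (U.left.ringCatSheaf.obj.obj W) ((presh G p hp).obj W) :=
  inferInstanceAs (Module Γ(U.left, W.unop) (SSec G p hp W.unop))

/-- The companion presheaf of modules. -/
def preMod : PresheafOfModules U.left.ringCatSheaf.obj :=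
  PresheafOfModules.ofPresheaf (presh G p hp) fun W W' f a x => by
    refine (se G p hp W'.unop).injective ((se_ssres G p hp f.unop.le _).trans ?_)
    refine (congrArg (sres G p hp f.unop.le)
      (map_smul (se G p hp W.unop) (show Γ(U.left, W.unop) from a) (show SSec G p hp W.unop from x))).trans ?_
    refine (sres_smul G p hp f.unop.le (show Γ(U.left, W.unop) from a) _).trans ?_
    refine Eq.trans ?_ (map_smul (se G p hp W'.unop) _ _).symm
    exact congrArg (_ • ·) (se_ssres G p hp f.unop.le x).symm

theorem isSheaf_presh : Presheaf.IsSheaf (Opens.grothendieckTopology U.left) (presh G p hp) := by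
  refine (TopCat.Presheaf.isSheaf_iff_isSheafUniqueGluing (F := (presh G p hp : TopCat.Presheaf AddCommGrpCat.{u} U.left.carrier))).2 ?_
  intro ι Wi x hx
  have hx' : ∀ i j, sres G p hp (inf_le_left : Wi i ⊓ Wi j ≤ Wi i) (se G p hp _ (x i)) =
      sres G p hp (inf_le_right : Wi i ⊓ Wi j ≤ Wi j) (se G p hp _ (x j)) := fun i j => by
    rw [← se_ssres, ← se_ssres]
    exact congrArg (se G p hp _) (hx i j)
  obtain ⟨y, hy⟩ := sec_glue G Wi (le_iSup Wi) le_rfl (fun i => se G p hp _ (x i)) hx'
  refine ⟨(se G p hp _).symm y, fun i => ?_, fun z hz => ?_⟩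
  · refine (se G p hp (Wi i)).injective ((se_ssres G p hp _ _).trans ?_)
    rw [LinearEquiv.apply_symm_apply]
    exact hy i
  · refine (LinearEquiv.eq_symm_apply _).2 (sec_ext G Wi (le_iSup Wi) le_rfl fun i => ?_)
    rw [hy i]
    exact (se_ssres G p hp _ _).symm.trans (congrArg (se G p hp _) (hz i))

/-- The companion sheaf of modules. -/
def comp : U.left.Modules where
  val := preMod G p hp
  isSheaf := isSheaf_presh G p hp

/-- A function on an open as a function on the object. -/
def fnOf (W : U.left.Opens) : Γ(U.left, W) →+* Fn (openObj p hp W) := W.topIso.inv.hom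

variable {W : U.left.Opens} (hW : IsAffineOpen W) (f : Γ(U.left, W))

theorem rmap_openMap_topIso {W' : U.left.Opens} (h : W' ≤ W) (a : Γ(U.left, W)) :
    rmap (openMap p hp h) (W.topIso.inv a) = W'.topIso.inv (U.left.presheaf.map (homOfLE h).op a) := by
  change (W.topIso.inv ≫ (U.left.homOfLE h).appTop) a = (U.left.presheaf.map (homOfLE h).op ≫ W'.topIso.inv) a
  congr 2
  rw [Scheme.homOfLE_appTop, Scheme.Opens.topIso_inv, Scheme.Opens.topIso_inv, ← Functor.map_comp, ← Functor.map_comp]
  rfl

include hW in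
omit [∀ W : U.left.Opens, Small.{u} (Sec G p hp W)] in
theorem away_openMap :
    letI := algOf (openMap p hp (U.left.basicOpen_le f))
    IsLocalization.Away (R := Fn (openObj p hp W)) (fnOf p hp W f)
      (Fn (openObj p hp (U.left.basicOpen f))) := by
  letI := algOf (openMap p hp (U.left.basicOpen_le f))
  letI : Algebra Γ(U.left, W) Γ(U.left, U.left.basicOpen f) :=
    (U.left.presheaf.map (homOfLE (U.left.basicOpen_le f)).op).hom.toAlgebra
  haveI : IsLocalization.Away f Γ(U.left, U.left.basicOpen f) := hW.isLocalization_basicOpen f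
  exact @away_transport Γ(U.left, W) (Fn (openObj p hp W)) Γ(U.left, U.left.basicOpen f)
    (Fn (openObj p hp (U.left.basicOpen f))) _ _ _ _ _ (algOf (openMap p hp (U.left.basicOpen_le f)))
    W.topIso.symm.commRingCatIsoToRingEquiv (U.left.basicOpen f).topIso.symm.commRingCatIsoToRingEquiv
    (fun a => (rmap_openMap_topIso p hp (U.left.basicOpen_le f) a).symm) f this

include hW in
theorem isLocalizedModule_openMap [G.IsQuasicoherent] :
    letI := modOf G (openMap p hp (U.left.basicOpen_le f))
    IsLocalizedModule (R := Fn (openObj p hp W)) (Submonoid.powers (fnOf p hp W f))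
      (resL G (openMap p hp (U.left.basicOpen_le f))) := by
  letI := algOf (openMap p hp (U.left.basicOpen_le f))
  letI := modOf G (openMap p hp (U.left.basicOpen_le f))
  haveI := towerOf G (openMap p hp (U.left.basicOpen_le f))
  haveI := away_openMap p hp hW f
  refine (isLocalizedModule_iff_isBaseChange (Submonoid.powers (fnOf p hp W f))
    (Fn (openObj p hp (U.left.basicOpen f))) _).2 ?_
  exact cart_of_isQuasicoherent G (aff_openObj p hp hW) _ _ (aff_openObj p hp (hW.basicOpen f))

include hW in
theorem exists_pow_smul_eq [G.IsQuasicoherent] (s : Sec G p hp (U.left.basicOpen f)) :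
    ∃ (n : ℕ) (t : Sec G p hp W), sres G p hp (U.left.basicOpen_le f) t =
      U.left.presheaf.map (homOfLE (U.left.basicOpen_le f)).op f ^ n • s := by
  letI := modOf G (openMap p hp (U.left.basicOpen_le f))
  haveI := isLocalizedModule_openMap G p hp hW f
  obtain ⟨⟨t, ⟨_, n, rfl⟩⟩, ht⟩ := IsLocalizedModule.surj
    (Submonoid.powers (fnOf p hp W f)) (resL G (openMap p hp (U.left.basicOpen_le f))) s
  refine ⟨n, t, ?_⟩
  refine Eq.trans ht.symm (congrArg (fun c : Fn (openObj p hp (U.left.basicOpen f)) =>
    c • (show sectModEt G (openObj p hp (U.left.basicOpen f)) from s)) ?_)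
  change rmap (openMap p hp (U.left.basicOpen_le f)) ((fnOf p hp W f) ^ n) =
    fnOf p hp (U.left.basicOpen f) (U.left.presheaf.map (homOfLE (U.left.basicOpen_le f)).op f ^ n)
  rw [map_pow, map_pow]
  exact congrArg (· ^ n) (rmap_openMap_topIso p hp (U.left.basicOpen_le f) f)

include hW in
theorem exists_pow_smul_eq_zero [G.IsQuasicoherent] (t : Sec G p hp W)
    (ht : sres G p hp (U.left.basicOpen_le f) t = 0) : ∃ n : ℕ, f ^ n • t = 0 := by
  letI := modOf G (openMap p hp (U.left.basicOpen_le f))
  haveI := isLocalizedModule_openMap G p hp hW f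
  obtain ⟨⟨_, n, rfl⟩, hn⟩ := (IsLocalizedModule.eq_zero_iff
    (Submonoid.powers (fnOf p hp W f)) (resL G (openMap p hp (U.left.basicOpen_le f)))).1 ht
  refine ⟨n, Eq.trans ?_ hn⟩
  refine congrArg (fun c : Fn (openObj p hp W) => c • (show sectModEt G (openObj p hp W) from t)) ?_
  exact map_pow (fnOf p hp W) f n

/-- The companion is quasi-coherent. -/
theorem isQCoh_comp [G.IsQuasicoherent] : Coh.IsQCoh (comp G p hp) := by
  refine QCoh.isQCoh_of_sections (fun W hW f s => ?_) fun W hW f t ht => ?_
  · obtain ⟨n, t, ht⟩ := exists_pow_smul_eq G p hp hW f (se G p hp _ s)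
    refine ⟨n, (se G p hp W).symm t, (se G p hp _).injective ?_⟩
    refine (se_ssres G p hp _ _).trans ?_
    rw [LinearEquiv.apply_symm_apply]
    exact ht.trans (map_smul (se G p hp _) _ _).symm
  · obtain ⟨n, hn⟩ := exists_pow_smul_eq_zero G p hp hW f (se G p hp W t)
      ((se_ssres G p hp _ _).symm.trans ((congrArg (se G p hp _) ht).trans (map_zero _)))
    exact ⟨n, (se G p hp W).injective ((map_smul (se G p hp W) _ _).trans (hn.trans (map_zero _).symm))⟩

variable (hrep : Representable p) [(SheafOfModules.pushforward.{u + 1} (bcRingHom hrep)).IsRightAdjoint]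

/-- The comparison of the pullback to a chart with restriction. -/
def pullIso :
    haveI := AlgSpDec.PostcompSite.isContinuous p (isEtaleMor_chart p hp)
    (SheafOfModules.pushforward.{u + 1} (AlgSpDec.EtPullRestrict.φ (isEtaleMor_chart p hp))).obj G ≅
      (pullModEt hrep).obj G :=
  haveI := AlgSpDec.PostcompSite.isContinuous p (isEtaleMor_chart p hp)
  ((AlgSpDec.EtPullRestrict.modAdj hrep (isEtaleMor_chart p hp)).leftAdjointUniq (pullPushAdjModEt hrep)).app G

theorem bijective_pullIso_inv (W' : EtOver ((yon S).obj U)) :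
    haveI := AlgSpDec.PostcompSite.isContinuous p (isEtaleMor_chart p hp)
    Function.Bijective (appL (pullIso G p hp hrep).inv W') := by
  haveI := AlgSpDec.PostcompSite.isContinuous p (isEtaleMor_chart p hp)
  refine ⟨injective_appL _ W', fun x => ⟨appL (pullIso G p hp hrep).hom W' x, ?_⟩⟩
  exact congrArg (fun k : _ ⟶ _ => appL k W' x) (pullIso G p hp hrep).hom_inv_id

/-- The sections of the pullback to a chart over an object are the sections over its image. -/
def pullL (W' : EtOver ((yon S).obj U)) :
    sectModEt ((pullModEt hrep).obj G) W' ≃+ sectModEt G ((EtOver.postcomp p (isEtaleMor_chart p hp)).obj W') :=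
  haveI := AlgSpDec.PostcompSite.isContinuous p (isEtaleMor_chart p hp)
  AddEquiv.ofBijective (appL (pullIso G p hp hrep).inv W').toAddMonoidHom (bijective_pullIso_inv G p hp hrep W')

theorem pullL_smul (W' : EtOver ((yon S).obj U)) (a : Fn W') (x : sectModEt ((pullModEt hrep).obj G) W') :
    pullL G p hp hrep W' (a • x) =
      (show Fn ((EtOver.postcomp p (isEtaleMor_chart p hp)).obj W') from a) • pullL G p hp hrep W' x := by
  haveI := AlgSpDec.PostcompSite.isContinuous p (isEtaleMor_chart p hp)
  exact map_smul (appL (pullIso G p hp hrep).inv W') a x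

theorem pullL_res {W' W'' : EtOver ((yon S).obj U)} (g : W'' ⟶ W') (x : sectModEt ((pullModEt hrep).obj G) W') :
    pullL G p hp hrep W'' (res _ g x) =
      res G ((EtOver.postcomp p (isEtaleMor_chart p hp)).map g) (pullL G p hp hrep W' x) := by
  haveI := AlgSpDec.PostcompSite.isContinuous p (isEtaleMor_chart p hp)
  exact (res_appL (pullIso G p hp hrep).inv g x).symm

/-- The identification of the companion. -/
def compIso (W : U.left.Opens) :
    (((resSchModEt U).obj ((pullModEt hrep).obj G)).val.obj (op (etaleOfOpen U.left W)) : Type (u + 1)) ≃+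
      ULift.{u + 1} ((comp G p hp).val.obj (op W) : Type u) :=
  ((pullL G p hp hrep ((EtOver.ofScheme U).obj (etaleOfOpen U.left W))).trans
    (se G p hp W).symm.toAddEquiv).trans AddEquiv.ulift.symm

/-- A small quasi-coherent module has a companion on a chart. -/
def zarCompanion : ZarCompanion U.left (comp G p hp) ((resSchModEt U).obj ((pullModEt hrep).obj G)) where
  iso := compIso G p hp hrep
  map_smul W a m := by
    refine congrArg ULift.up ?_
    refine (congrArg (se G p hp W).symm
      (pullL_smul G p hp hrep ((EtOver.ofScheme U).obj (etaleOfOpen U.left W)) (W.topIso.inv a) m)).trans ?_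
    exact map_smul (se G p hp W).symm a _
  map_res {W W'} h m := by
    refine congrArg ULift.up ((se G p hp W').injective ?_)
    refine ((se G p hp W').apply_symm_apply _).trans ?_
    refine (pullL_res G p hp hrep ((EtOver.ofScheme U).map (etaleOfLE h)) m).trans ?_
    refine Eq.trans ?_ (se_ssres G p hp h _).symm
    exact congrArg (res G (openMap p hp h)) ((se G p hp W).apply_symm_apply _).symm

end Groth.Agent.ProjDescent13

end
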