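import Groth.Agent.ProjDescent13.Main
import Groth.Agent.QCart13.QC
import Groth.Agent.QCart13.Ops
import Groth.Agent.QCPull13.Space

/-!
# Retracts of free modules on slices, and their pullbacks
-/

set_option autoImplicit false
set_option backward.isDefEq.respectTransparency false
set_option backward.isDefEq.respectTransparency.types false

noncomputable section

universe u u₁ u₂ v₁ v₂

open CategoryTheory CategoryTheory.Limits AlgebraicGeometry Opposite AlgSp TensorProduct
open Groth.Agent.QCart13

namespace Groth.Agent.ProjDescent13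

section site

variable {C : Type u₁} [Category.{v₁} C] {D : Type u₂} [Category.{v₂} D]
  {J : GrothendieckTopology C} {K : GrothendieckTopology D} {F : C ⥤ D}
  {S : Sheaf J RingCat.{u}} {R : Sheaf K RingCat.{u}}
  [Functor.IsContinuous F J K]
  [HasSheafify J AddCommGrpCat.{u}] [J.WEqualsLocallyBijective AddCommGrpCat.{u}]
  [HasSheafify K AddCommGrpCat.{u}] [K.WEqualsLocallyBijective AddCommGrpCat.{u}]
  (φ : S ⟶ (F.sheafPushforwardContinuous RingCat.{u} J K).obj R)

/-- A retract of a free module pulls back to a retract of a free module. -/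
theorem exists_retract_of_universal [F.Final] {I : Type u} {N : SheafOfModules.{u} S} {L : SheafOfModules.{u} R}
    (π : SheafOfModules.free (R := S) I ⟶ N) (σ : N ⟶ SheafOfModules.free (R := S) I) (hσ : σ ≫ π = 𝟙 N)
    (η : N ⟶ (SheafOfModules.pushforward.{u} φ).obj L)
    (hη : ∀ M : SheafOfModules.{u} R, Function.Bijective fun g : L ⟶ M =>
      η ≫ (SheafOfModules.pushforward.{u} φ).map g) :
    ∃ (π' : SheafOfModules.free (R := R) I ⟶ L) (σ' : L ⟶ SheafOfModules.free (R := R) I), σ' ≫ π' = 𝟙 L := by
  obtain ⟨π', hπ⟩ := (QCPull13.bijective_freeUnit φ I L).2 (π ≫ η)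
  obtain ⟨σ', hσ'⟩ := (hη _).2 (σ ≫ QCPull13.freeUnit φ I)
  dsimp only at hπ hσ'
  refine ⟨π', σ', (hη L).1 ?_⟩
  dsimp only
  rw [Functor.map_comp, ← Category.assoc, hσ', Category.assoc, hπ, ← Category.assoc, hσ,
    CategoryTheory.Functor.map_id, Category.id_comp, Category.comp_id]

end site

section alg

variable {A B P : Type*} [CommRing A] [CommRing B] [Algebra A B] [AddCommGroup P] [Module A P]

variable (A B P) in
/-- Combinations of elements in the base change. -/
def tens : (P →₀ B) →ₗ[B] B ⊗[A] P := Finsupp.linearCombination B fun i => (1 : B) ⊗ₜ[A] i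

variable (A B P) in
theorem tens_single (i : P) (b : B) : tens A B P (Finsupp.single i b) = b ⊗ₜ[A] i := by
  rw [tens, Finsupp.linearCombination_single, TensorProduct.smul_tmul', smul_eq_mul, mul_one]

variable (A B P) in
theorem tens_surjective : Function.Surjective (tens A B P) := fun z => by
  induction z using TensorProduct.induction_on with
  | zero => exact ⟨0, map_zero _⟩
  | tmul c i => exact ⟨Finsupp.single i c, tens_single A B P i c⟩
  | add p q hp hq =>
    obtain ⟨v, rfl⟩ := hp
    obtain ⟨w, rfl⟩ := hq
    exact ⟨v + w, map_add _ _ _⟩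

/-- A relation in a base change is killed by the base change of a section of the projection. -/
theorem linearCombination_mapRange_eq_zero (s : P →ₗ[A] (P →₀ A)) (v : P →₀ B)
    (h : tens A B P v = 0) :
    Finsupp.linearCombination B (fun i => (s i).mapRange (algebraMap A B) (map_zero _)) v = 0 := by
  let l : P →ₗ[A] (P →₀ B) := (Finsupp.mapRange.linearMap (Algebra.linearMap A B)).comp s
  have h1 : l.liftBaseChange B (tens A B P v) = 0 := by rw [h, map_zero]
  refine Eq.trans ?_ h1
  rw [tens, Finsupp.apply_linearCombination]
  refine congrArg (fun g => Finsupp.linearCombination B g v) (funext fun i => ?_)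
  simp only [Function.comp_apply, LinearMap.liftBaseChange_tmul, one_smul]
  rfl

variable (A B P) in
theorem tens_mapRange (w : P →₀ A) :
    tens A B P (w.mapRange (algebraMap A B) (map_zero _)) = (1 : B) ⊗ₜ[A] Finsupp.linearCombination A id w := by
  induction w using Finsupp.induction_linear with
  | zero => simp
  | add x y hx hy => rw [Finsupp.mapRange_add (map_add _), map_add, map_add, TensorProduct.tmul_add, hx, hy]
  | single i a =>
    rw [Finsupp.mapRange_single, tens_single, Finsupp.linearCombination_single, id_eq, Algebra.algebraMap_eq_smul_one]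
    exact TensorProduct.smul_tmul a 1 i

end alg

variable {S : Scheme.{u}} {X : Sp S}

/-- The affine objects over an object cover it. -/
theorem affine_sieve_mem (E : EtOver X) :
    Sieve.generate (fun T => {_g : T ⟶ E | Aff T}) ∈ etTop X E := mem_etTop_of_exists _ fun t => by
  obtain ⟨W, hW, htW, -⟩ := exists_isAffineOpen_mem_and_subset (U := (⊤ : E.obj.left.left.Opens)) (x := t) trivial
  exact ⟨AlgSpDec.etOpen E W, AlgSpDec.etOpenι E W, Sieve.le_generate _ _ _ hW,
    (AlgSpDec.range_etOpenι E W).ge htW⟩

variable {E : EtOver X}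

/-- Morphisms of modules on a slice agree if they agree on affine objects. -/
theorem hom_ext_affine {F G : ModEtOn E} (φ ψ : F ⟶ G)
    (h : ∀ T : Over E, Aff T.left → ∀ x, appOn φ T x = appOn ψ T x) : φ = ψ := by
  refine SheafOfModules.hom_ext (PresheafOfModules.hom_ext fun W => ModuleCat.hom_ext (LinearMap.ext fun x => ?_))
  refine sub_eq_zero.1 (Gen.eq_zero_of_local (W := W.unop) G (appOn φ W.unop x - appOn ψ W.unop x)
    (T := (Sieve.overEquiv W.unop).symm (Sieve.generate (fun T => {_g : T ⟶ W.unop.left | Aff T}))) ?_ ?_)
  · exact GrothendieckTopology.overEquiv_symm_mem_over _ _ _ (affine_sieve_mem _)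
  · intro T g hg
    rw [map_sub, mres_appOn, mres_appOn, sub_eq_zero]
    obtain ⟨T', a, b, hb, hab⟩ := (Sieve.overEquiv_symm_iff _ _).1 hg
    let T'' : Over E := Over.mk (b ≫ W.unop.hom)
    let a' : T ⟶ T'' := Over.homMk a (by
      change a ≫ b ≫ W.unop.hom = T.hom
      rw [← Category.assoc, hab, Over.w g])
    have hg' : g = a' ≫ (Over.homMk b rfl : T'' ⟶ W.unop) := Over.OverMorphism.ext hab.symm
    have e1 := congrArg (Gen.mres G a') (h T'' hb (Gen.mres F (Over.homMk b rfl : T'' ⟶ W.unop) x))
    refine Eq.trans ?_ ((mres_appOn φ a' _).symm.trans (e1.trans (mres_appOn ψ a' _))) |>.trans ?_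
    · exact congrArg (appOn φ T) (by rw [hg', Gen.map_comp_apply])
    · exact (congrArg (appOn ψ T) (by rw [hg', Gen.map_comp_apply])).symm

variable (G : ModEt X)

/-- The section of the restriction to a slice given by a section below. -/
def baseSec (i : sectModEt G E) : (G.over E).sections :=
  PresheafOfModules.sectionsMk (fun T => res G T.unop.hom i) fun T T' g => by
    refine (res_comp G g.unop.left T.unop.hom i).symm.trans ?_
    rw [Over.w g.unop]

theorem gen_symm {F : ModEtOn E} {I : Type (u + 1)} (σ : I → F.sections) (T : Over E) (i : I) :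
    gen ((SheafOfModules.freeHomEquiv F).symm σ) T i = (σ i).eval (op T) :=
  congrArg (fun t : F.sections => t.eval (op T))
    (SheafOfModules.sectionsMap_freeHomEquiv_symm_freeSection σ i)

/-- The free module on the sections mapping to a module. -/
def cover : SheafOfModules.free (R := OEtOn E) (sectModEt G E) ⟶ G.over E :=
  (SheafOfModules.freeHomEquiv _).symm (baseSec G)

theorem toSect_gen_cover (T : Over E) (i : sectModEt G E) : toSect G T (gen (cover G) T i) = res G T.hom i :=
  (congrArg (toSect G T) (gen_symm (baseSec G) T i)).trans rfl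

theorem toSect_cover_eL (T : Over E) (v : sectModEt G E →₀ Fn T.left) :
    toSect G T (appOn (cover G) T (eL T v)) = bcMor G T (tens (Fn E) (Fn T.left) (sectModEt G E) v) := by
  induction v using Finsupp.induction_linear with
  | zero => simp
  | add x y hx hy => simp only [map_add, hx, hy]
  | single i b =>
    rw [tens_single, LinearMap.liftBaseChange_tmul, res₀_apply, eL, Finsupp.linearCombination_single, map_smul,
      toSect_smul]
    exact congrArg (b • ·) (toSect_gen_cover G T i)

variable (s : sectModEt G E →ₗ[Fn E] (sectModEt G E →₀ Fn E))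

/-- The sections of the free module given by a section of the projection. -/
def freeSec (i : sectModEt G E) : (SheafOfModules.free (R := OEtOn E) (sectModEt G E) : ModEtOn E).sections :=
  PresheafOfModules.sectionsMk (fun T => eL T.unop ((s i).mapRange (rmap T.unop.hom) (map_zero _)))
    fun T T' g => by
      refine (mres_eL g.unop _).trans (congrArg (eL T'.unop) (Finsupp.ext fun j => ?_))
      rw [Finsupp.mapRange_apply, Finsupp.mapRange_apply, Finsupp.mapRange_apply, ← rmap_comp, Over.w g.unop]

/-- The idempotent of the free module given by a section of the projection. -/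
def idem : SheafOfModules.free (R := OEtOn E) (sectModEt G E) ⟶ SheafOfModules.free (sectModEt G E) :=
  (SheafOfModules.freeHomEquiv _).symm (freeSec G s)

theorem gen_idem (T : Over E) (i : sectModEt G E) :
    gen (idem G s) T i = eL T ((s i).mapRange (rmap T.hom) (map_zero _)) :=
  gen_symm (freeSec G s) T i

theorem idem_cover (hs : ∀ i, Finsupp.linearCombination (Fn E) id (s i) = i) : idem G s ≫ cover G = cover G := by
  refine (SheafOfModules.freeHomEquiv _).injective (funext fun i => ?_)
  refine PresheafOfModules.sections_ext _ _ fun T => ?_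
  change gen (idem G s ≫ cover G) T.unop i = gen (cover G) T.unop i
  apply (toSect_bijective G T.unop).1
  rw [← appOn_gen, gen_idem, toSect_cover_eL, toSect_gen_cover]
  refine (congrArg (bcMor G T.unop) (tens_mapRange (Fn E) (Fn T.unop.left) (sectModEt G E) (s i))).trans ?_
  rw [hs i, LinearMap.liftBaseChange_tmul, one_smul, res₀_apply]

theorem appOn_idem_eL (T : Over E) (v : sectModEt G E →₀ Fn T.left) :
    appOn (idem G s) T (eL T v) =
      eL T (Finsupp.linearCombination (Fn T.left) (fun i => (s i).mapRange (rmap T.hom) (map_zero _)) v) := by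
  induction v using Finsupp.induction_linear with
  | zero => simp
  | add x y hx hy => simp only [map_add, hx, hy]
  | single i b =>
    refine (pi_eL (idem G s) T _).symm.trans ((Finsupp.linearCombination_single _ _ _).trans ?_)
    refine (congrArg (b • ·) (gen_idem G s T i)).trans ?_
    refine ((eL T).map_smul b _).symm.trans ?_
    rw [Finsupp.linearCombination_single]

variable [G.IsQuasicoherent]

theorem epi_cover (hE : Aff E) : Epi (cover (E := E) G) := ⟨fun {H} a b hab => hom_ext_affine a b fun T hT x => by
  obtain ⟨z, hz⟩ := (bijective_bcMor (cart_of_isQuasicoherent G hE) T hT).2 (toSect G T x)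
  obtain ⟨v, rfl⟩ := tens_surjective (Fn E) (Fn T.left) (sectModEt G E) z
  have e : appOn (cover G) T (eL T v) = x :=
    (toSect_bijective G T).1 ((toSect_cover_eL G T v).trans hz)
  have h1 : appOn (cover G ≫ a) T (eL T v) = appOn (cover G ≫ b) T (eL T v) :=
    congrArg (fun k => appOn k T (eL T v)) hab
  exact ((congrArg (appOn a T) e).symm.trans h1).trans (congrArg (appOn b T) e)⟩

theorem appOn_idem_eq_zero (hE : Aff E) (T : Over E) (hT : Aff T.left)
    (y : (SheafOfModules.free (R := OEtOn E) (sectModEt G E) : ModEtOn E).val.obj (op T))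
    (hy : appOn (cover G) T y = 0) : appOn (idem G s) T y = 0 := by
  obtain ⟨v, rfl⟩ := eL_surjective (I := sectModEt G E) T hT y
  have hz : tens (Fn E) (Fn T.left) (sectModEt G E) v = 0 := by
    refine (bijective_bcMor (cart_of_isQuasicoherent G hE) T hT).1 ?_
    refine ((toSect_cover_eL G T v).symm.trans ((congrArg (toSect G T) hy).trans (map_zero _))).trans ?_
    exact (map_zero _).symm
  exact (appOn_idem_eL G s T v).trans
    ((congrArg (eL T) (linearCombination_mapRange_eq_zero s v hz)).trans (map_zero _))

theorem kernel_ι_idem (hE : Aff E) : kernel.ι (cover G) ≫ idem G s = 0 := hom_ext_affine _ _ fun T hT x => by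
  have h0 : appOn (cover G) T (appOn (kernel.ι (cover G)) T x) = 0 :=
    congrArg (fun k : kernel (cover G) ⟶ G.over E => appOn k T x) (kernel.condition (cover G))
  exact appOn_idem_eq_zero G s hE T hT _ h0

/-- Where the sections are projective, the module is a retract of a free module. -/
theorem exists_retract_of_projAt (hE : Aff E) (hP : ProjAt G E) :
    ∃ (I : Type (u + 1)) (π : SheafOfModules.free (R := OEtOn E) I ⟶ G.over E)
      (σ : G.over E ⟶ SheafOfModules.free (R := OEtOn E) I), σ ≫ π = 𝟙 _ := by
  obtain ⟨s, hs⟩ := hP
  haveI := epi_cover (E := E) G hE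
  refine ⟨_, cover G, Abelian.epiDesc (cover G) (idem G s) (kernel_ι_idem G s hE), (cancel_epi (cover G)).1 ?_⟩
  rw [← Category.assoc, Abelian.comp_epiDesc, idem_cover G s hs, Category.comp_id]

variable {G}

omit [G.IsQuasicoherent] in
/-- The affine values of a retract of a free module are projective. -/
theorem projAt_of_retract {M : ModEt X} {I : Type (u + 1)} (π : SheafOfModules.free (R := OEtOn E) I ⟶ M.over E)
    (σ : M.over E ⟶ SheafOfModules.free (R := OEtOn E) I) (h : σ ≫ π = 𝟙 _) (T : Over E) (hT : Aff T.left) :
    ProjAt M T.left := by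
  let L : (M.over E).val.obj (op T) ≃ₗ[Fn T.left] sectModEt M T.left :=
    LinearEquiv.ofBijective { toFun := toSect M T, map_add' := map_add _, map_smul' := toSect_smul M T }
      (toSect_bijective M T)
  let eq : (I →₀ Fn T.left) ≃ₗ[Fn T.left] (SheafOfModules.free (R := OEtOn E) I : ModEtOn E).val.obj (op T) :=
    LinearEquiv.ofBijective (eL T) ⟨eL_injective T, eL_surjective T hT⟩
  haveI : Module.Projective (Fn T.left) ((SheafOfModules.free (R := OEtOn E) I : ModEtOn E).val.obj (op T)) :=
    Module.Projective.of_equiv' eq
  haveI : Module.Projective (Fn T.left) ((M.over E).val.obj (op T)) :=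
    Module.Projective.of_split (appOn σ T) (appOn π T) (LinearMap.ext fun x => by
      change appOn π T (appOn σ T x) = x
      rw [appOn_appOn, h]
      rfl)
  exact Module.Projective.of_equiv' L

end Groth.Agent.ProjDescent13

end
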