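import Groth.Agent.ProjDescent13.Alg
import Groth.Agent.QCart13.Abelian
import Groth.Agent.AlgSpDec.EtPullRestrict
import Groth.Agent.AlgSpLib.Points
import Groth.Prelude.Def_AlgSpModX
import Groth.Prelude.Def_AlgSpD

/-!
# Local projectivity of quasi-coherent modules on an algebraic space
-/

set_option autoImplicit false
set_option backward.isDefEq.respectTransparency false
set_option backward.isDefEq.respectTransparency.types false

noncomputable section

universe u

open CategoryTheory CategoryTheory.Limits AlgebraicGeometry Opposite AlgSp TensorProduct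
open Groth.Agent.QCart13

namespace Groth.Agent.ProjDescent13

variable {S : Scheme.{u}} {X : Sp S} (F : ModEt X)

/-- The sections over an affine object are projective. -/
abbrev ProjAt (E : EtOver X) : Prop := Module.Projective (Fn E) (sectModEt F E)

theorem projAt_of_hom [F.IsQuasicoherent] {E T : EtOver X} (hE : Aff E) (h : T ⟶ E) (hT : Aff T)
    (hP : ProjAt F E) : ProjAt F T := by
  have hb := bijective_bcMor (cart_of_isQuasicoherent F hE) (Over.mk h) hT
  haveI : Module.Projective (Fn E) (sectModEt F E) := hP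
  haveI : Module.Projective (Fn (Over.mk h).left) (Fn (Over.mk h).left ⊗[Fn E] sectModEt F E) :=
    Module.Projective.tensorProduct
  have h' : Module.Projective (Fn (Over.mk h).left) (sectModEt F (Over.mk h).left) :=
    Module.Projective.of_equiv' (LinearEquiv.ofBijective (bcMor F (Over.mk h)) hb)
  exact h' 

theorem projective_of_cov [F.IsQuasicoherent] {E : EtOver X} (hE : Aff E) (c : Cov E)
    (hP : ∀ i, ProjAt F (c.T i).left) {M : Type u} [AddCommGroup M] [Module (Fn E) M]
    (θ : M ≃ₗ[Fn E] sectModEt F E) : Module.Projective (Fn E) M := by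
  haveI : ∀ i, Module.Flat (Fn E) (Fn (c.T i).left) := fun i => flat_over hE (c.aff i)
  haveI : ∀ i, Module.Projective (Fn (c.T i).left) (Fn (c.T i).left ⊗[Fn E] M) := fun i =>
    haveI : Module.Projective (Fn (c.T i).left) (sectModEt F (c.T i).left) := hP i
    Module.Projective.of_equiv' ((TensorProduct.AlgebraTensorModule.congr
      (LinearEquiv.refl (Fn (c.T i).left) (Fn (c.T i).left)) θ).trans (LinearEquiv.ofBijective (bcMor F (c.T i))
        (bijective_bcMor (cart_of_isQuasicoherent F hE) (c.T i) (c.aff i)))).symm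
  exact projective_of_local (c.jointlySurj hE)

variable {U : Over S} (p : (yon S).obj U ⟶ X) (hp : RepWith @Etale p)

include hp in
/-- An etale chart is an etale map of spaces. -/
theorem isEtaleMor_chart : IsEtaleMor p := fun _ _ hφ => AlgSpLib.repWith_comp hφ hp

/-- An open of a chart as an object over the space. -/
def openObj (W : U.left.Opens) : EtOver X :=
  (EtOver.postcomp p (isEtaleMor_chart p hp)).obj ((EtOver.ofScheme U).obj (etaleOfOpen U.left W))

theorem aff_openObj {W : U.left.Opens} (hW : IsAffineOpen W) : Aff (openObj p hp W) := hW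

theorem hom_openObj (W : U.left.Opens) : ∃ k : (openObj p hp W).obj.left ⟶ U,
    k.left = W.ι ∧ (openObj p hp W).obj.hom = (yon S).map k ≫ p :=
  ⟨_, rfl, rfl⟩

variable (hrep : Representable p) [(SheafOfModules.pushforward.{u + 1} (bcRingHom hrep)).IsRightAdjoint]
  (G : U.left.Modules) (c : ZarCompanion U.left G ((resSchModEt U).obj ((pullModEt hrep).obj F)))

include hp c in
theorem exists_sections_equiv (W : U.left.Opens) :
    ∃ e : (G.val.obj (op W) : Type u) ≃+ sectModEt F (openObj p hp W),
      ∀ (a : Γ(U.left, W)) (m : G.val.obj (op W)),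
        e (a • m) = (show Fn (openObj p hp W) from W.topIso.inv a) • e m := by
  haveI := AlgSpDec.PostcompSite.isContinuous p (isEtaleMor_chart p hp)
  let i := ((AlgSpDec.EtPullRestrict.modAdj hrep (isEtaleMor_chart p hp)).leftAdjointUniq
    (pullPushAdjModEt hrep)).app F
  let W' : EtOver ((yon S).obj U) := (EtOver.ofScheme U).obj (etaleOfOpen U.left W)
  let L := appL i.inv W'
  have hL : Function.Bijective L := by
    refine ⟨injective_appL i.inv W', fun x => ⟨appL i.hom W' x, ?_⟩⟩
    exact congrArg (fun k : _ ⟶ _ => appL k W' x) i.hom_inv_id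
  let L' : sectModEt ((pullModEt hrep).obj F) W' ≃+ sectModEt F (openObj p hp W) :=
    AddEquiv.ofBijective L.toAddMonoidHom hL
  let eC : (G.val.obj (op W) : Type u) ≃+ sectModEt ((pullModEt hrep).obj F) W' :=
    AddEquiv.ulift.symm.trans (c.iso W).symm
  refine ⟨eC.trans L', fun a m => ?_⟩
  have h1 : eC (a • m) = (show Fn W' from W.topIso.inv a) • eC m := by
    refine (AddEquiv.symm_apply_eq (c.iso W)).2 ?_
    refine Eq.trans ?_ (c.map_smul W a ((c.iso W).symm (ULift.up m))).symm
    rw [AddEquiv.apply_symm_apply]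
    rfl
  change L (eC (a • m)) = _
  rw [h1, map_smul]
  rfl

include hp c in
theorem projAt_openObj {W : U.left.Opens}
    (hG : Module.Projective (U.left.ringCatSheaf.obj.obj (op W)) (G.val.obj (op W))) :
    ProjAt F (openObj p hp W) := by
  obtain ⟨e, he⟩ := exists_sections_equiv F p hp hrep G c W
  exact projective_semilinear (A := Γ(U.left, W)) (B := Fn (openObj p hp W))
    W.topIso.symm.commRingCatIsoToRingEquiv e he (hM := hG)

/-- Points of a space are reached by affine opens of a surjective chart. -/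
theorem exists_openObj_point (hs : RepWith @Surjective p) (E : EtOver X) (t : ↥E.obj.left.left) :
    ∃ (W : U.left.Opens) (_ : IsAffineOpen W) (T : EtOver X) (g : T ⟶ E) (_ : T ⟶ openObj p hp W),
      t ∈ Set.range g.hom.left.left := by
  obtain ⟨v, hv⟩ := AlgSpLib.surjective_ofPt hs (Points.ofPt E.obj.hom t)
  obtain ⟨W, hW, hvW, -⟩ := exists_isAffineOpen_mem_and_subset (U := (⊤ : U.left.Opens)) (x := v) trivial
  obtain ⟨k, hk, hk'⟩ := hom_openObj p hp W
  let E₂ := openObj p hp W
  obtain ⟨w, hw⟩ : ∃ w, k.left w = v := by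
    rw [hk]
    exact ⟨⟨v, hvW⟩, rfl⟩
  have hx : Points.map E₂.obj.hom (Points.ofPt (𝟙 _) w) = Points.map E.obj.hom (Points.ofPt (𝟙 _) t) := by
    rw [Points.map_ofPt, Points.map_ofPt, Category.id_comp, Category.id_comp, hk', AlgSpLib.ofPt_comp, hw, hv]
  obtain ⟨z, -, hz⟩ := AlgSpLib.exists_point_of_isPullback (E₂.property.1.isPullback E.obj.hom) hx
  refine ⟨W, hW, EtOver.prodObj E E₂, EtOver.prodFst E E₂, EtOver.prodSnd E E₂, Points.toScheme _ z, ?_⟩
  rw [← Points.ofScheme_toScheme _ z, ← Points.ofPt_eq_map_ofScheme, ← (yon S).map_id] at hz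
  have h := congrArg (Points.toScheme E.obj.left) hz
  rw [Points.toScheme_ofPt, Points.toScheme_ofPt] at h
  exact h

include hp c in
theorem exists_cov_projAt [F.IsQuasicoherent] (hs : RepWith @Surjective p)
    (hG : ∀ W : U.left.Opens, IsAffineOpen W →
      Module.Projective (U.left.ringCatSheaf.obj.obj (op W)) (G.val.obj (op W)))
    {E : EtOver X} (hE : Aff E) : ∃ d : Cov E, ∀ i, ProjAt F (d.T i).left := by
  have hR : Sieve.generate (fun T => {_g : T ⟶ E | ∃ W : U.left.Opens, IsAffineOpen W ∧
      Nonempty (T ⟶ openObj p hp W)}) ∈ etTop X E := mem_etTop_of_exists _ fun t => by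
    obtain ⟨W, hW, T, g, k, ht⟩ := exists_openObj_point p hp hs E t
    exact ⟨T, g, Sieve.le_generate _ _ _ ⟨W, hW, ⟨k⟩⟩, ht⟩
  obtain ⟨d, hd⟩ := exists_cov hE hR
  refine ⟨d, fun i => ?_⟩
  obtain ⟨T, a, g, ⟨W, hW, ⟨k⟩⟩, -⟩ := hd i
  exact projAt_of_hom F (aff_openObj p hp hW) (a ≫ k) (d.aff i) (projAt_openObj F p hp hrep G c (hG W hW))

include hp c in
theorem projective_chart [F.IsQuasicoherent] (hs : RepWith @Surjective p)
    (hG : ∀ W : U.left.Opens, IsAffineOpen W →
      Module.Projective (U.left.ringCatSheaf.obj.obj (op W)) (G.val.obj (op W)))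
    {V : Over S} (q : (yon S).obj V ⟶ X) (hq : RepWith @Etale q) (hrepq : Representable q)
    [(SheafOfModules.pushforward.{u + 1} (bcRingHom hrepq)).IsRightAdjoint]
    (G' : V.left.Modules) (c' : ZarCompanion V.left G' ((resSchModEt V).obj ((pullModEt hrepq).obj F)))
    (W : V.left.Opens) (hW : IsAffineOpen W) :
    Module.Projective (V.left.ringCatSheaf.obj.obj (op W)) (G'.val.obj (op W)) := by
  obtain ⟨d, hd⟩ := exists_cov_projAt F p hp hrep G c hs hG (aff_openObj q hq hW)
  obtain ⟨e, he⟩ := exists_sections_equiv F q hq hrepq G' c' W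
  letI : Module (Fn (openObj q hq W)) (G'.val.obj (op W) : Type u) :=
    Module.compHom (G'.val.obj (op W) : Type u) (W.topIso.hom.hom : Fn (openObj q hq W) →+* Γ(V.left, W))
  have hid : ∀ b : Fn (openObj q hq W), W.topIso.inv (W.topIso.hom b) = b := fun b =>
    congrArg (fun k => k b) W.topIso.hom_inv_id
  let θ : (G'.val.obj (op W) : Type u) ≃ₗ[Fn (openObj q hq W)] sectModEt F (openObj q hq W) :=
    AddEquiv.toLinearEquiv e fun b m =>
      (he (W.topIso.hom b) m).trans (congrArg (fun t : Fn (openObj q hq W) => t • e m) (hid b))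
  haveI := projective_of_cov F (aff_openObj q hq hW) d hd θ
  exact projective_semilinear (A := Fn (openObj q hq W)) (B := Γ(V.left, W))
    W.topIso.commRingCatIsoToRingEquiv (AddEquiv.refl (G'.val.obj (op W) : Type u)) fun _ _ => rfl

end Groth.Agent.ProjDescent13

end
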