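import Groth.Agent.ProjDescent13.Retract
import Groth.Agent.ProjDescent13.Companion

/-!
# Pullback preserves local projectivity
-/

set_option autoImplicit false
set_option backward.isDefEq.respectTransparency false
set_option backward.isDefEq.respectTransparency.types false

noncomputable section

universe u

open CategoryTheory CategoryTheory.Limits AlgebraicGeometry Opposite AlgSp TopologicalSpace TensorProduct
open Groth.Agent.QCart13

namespace Groth.Agent.ProjDescent13

variable {S : Scheme.{u}} {X Y : Sp S}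

section chart

variable (M : ModEt X) {U : Over S} (p : (yon S).obj U ⟶ X) (hp : RepWith @Etale p)
  (hrep : Representable p) [(SheafOfModules.pushforward.{u + 1} (bcRingHom hrep)).IsRightAdjoint]

include hp in
/-- A companion has projective sections where the module is locally projective. -/
theorem projective_of_cov_chart [M.IsQuasicoherent] (H : U.left.Modules)
    (c : ZarCompanion U.left H ((resSchModEt U).obj ((pullModEt hrep).obj M))) (W : U.left.Opens)
    (hW : IsAffineOpen W) (d : Cov (openObj p hp W)) (hd : ∀ i, ProjAt M (d.T i).left) :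
    Module.Projective (U.left.ringCatSheaf.obj.obj (op W)) (H.val.obj (op W)) := by
  obtain ⟨e, he⟩ := exists_sections_equiv M p hp hrep H c W
  letI : Module (Fn (openObj p hp W)) (H.val.obj (op W) : Type u) :=
    Module.compHom (H.val.obj (op W) : Type u) (W.topIso.hom.hom : Fn (openObj p hp W) →+* Γ(U.left, W))
  have hid : ∀ b : Fn (openObj p hp W), W.topIso.inv (W.topIso.hom b) = b := fun b =>
    congrArg (fun k => k b) W.topIso.hom_inv_id
  let θ : (H.val.obj (op W) : Type u) ≃ₗ[Fn (openObj p hp W)] sectModEt M (openObj p hp W) :=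
    AddEquiv.toLinearEquiv e fun b m =>
      (he (W.topIso.hom b) m).trans (congrArg (fun t : Fn (openObj p hp W) => t • e m) (hid b))
  haveI := projective_of_cov M (aff_openObj p hp hW) d hd θ
  exact projective_semilinear (A := Fn (openObj p hp W)) (B := Γ(U.left, W))
    W.topIso.commRingCatIsoToRingEquiv (AddEquiv.refl (H.val.obj (op W) : Type u)) fun _ _ => rfl

end chart

variable {f : X ⟶ Y} (hrep : Representable f)

/-- Points are reached by base changes of affine opens of a chart. -/
theorem exists_bc_point {V : Over S} (q : (yon S).obj V ⟶ Y) (hq : RepWith @Etale q)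
    (hs : RepWith @Surjective q) (E : EtOver X) (t : ↥E.obj.left.left) :
    ∃ (W : V.left.Opens) (_ : IsAffineOpen W) (T : EtOver X) (g : T ⟶ E)
      (_ : T ⟶ (EtOver.bc hrep).obj (openObj q hq W)), t ∈ Set.range g.hom.left.left := by
  obtain ⟨v, hv⟩ := AlgSpLib.surjective_ofPt hs (Points.ofPt (E.obj.hom ≫ f) t)
  obtain ⟨W, hW, hvW, -⟩ := exists_isAffineOpen_mem_and_subset (U := (⊤ : V.left.Opens)) (x := v) trivial
  obtain ⟨k, hk, hk'⟩ := hom_openObj q hq W
  let E₁ := openObj q hq W
  let E₂ : EtOver X := (EtOver.bc hrep).obj E₁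
  obtain ⟨w, hw⟩ : ∃ w, k.left w = v := by
    rw [hk]
    exact ⟨⟨v, hvW⟩, rfl⟩
  have hx : Points.map f (Points.map E.obj.hom (Points.ofPt (𝟙 _) t)) =
      Points.map E₁.obj.hom (Points.ofPt (𝟙 _) w) := by
    rw [Points.map_ofPt, Points.map_ofPt, Points.map_ofPt, Category.id_comp, Category.id_comp, hk',
      AlgSpLib.ofPt_comp, hw, hv]
  obtain ⟨y, hy, -⟩ := AlgSpLib.exists_point_of_isPullback (EtOver.isPullback_bcObj hrep E₁) hx
  obtain ⟨z, -, hz⟩ := AlgSpLib.exists_point_of_isPullback (E₂.property.1.isPullback E.obj.hom) hy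
  refine ⟨W, hW, EtOver.prodObj E E₂, EtOver.prodFst E E₂, EtOver.prodSnd E E₂, Points.toScheme _ z, ?_⟩
  rw [← Points.ofScheme_toScheme _ z, ← Points.ofPt_eq_map_ofScheme, ← (yon S).map_id] at hz
  have h := congrArg (Points.toScheme E.obj.left) hz
  rw [Points.toScheme_ofPt, Points.toScheme_ofPt] at h
  exact h

variable [(SheafOfModules.pushforward.{u + 1} (bcRingHom hrep)).IsRightAdjoint] (G : ModEt Y) [G.IsQuasicoherent]

/-- The pullback has projective values over the base change of an object with projective values. -/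
theorem projAt_bc {E : EtOver Y} (hE : Aff E) (hP : ProjAt G E) (T : Over ((EtOver.bc hrep).obj E))
    (hT : Aff T.left) : ProjAt ((pullModEt hrep).obj G) T.left := by
  obtain ⟨I, π, σ, h⟩ := exists_retract_of_projAt G hE hP
  haveI := QCPull13.isContinuous_overPost_bc hrep E
  haveI := QCPull13.isIso_prodComparison_bc hrep E
  haveI := QCPull13.final_overPost (EtOver.bc hrep) E
  obtain ⟨π', σ', h'⟩ := exists_retract_of_universal (QCPull13.sliceHom (bcRingHom hrep) E) π σ h
    (QCPull13.sliceUnit (bcRingHom hrep) E G) (QCPull13.bijective_sliceUnit (bcRingHom hrep) E G)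
  exact projAt_of_retract π' σ' h' T hT

/-- Local projectivity of the pullback on affine objects. -/
theorem exists_cov_projAt_pull {V : Over S} (q : (yon S).obj V ⟶ Y) (hq : RepWith @Etale q)
    (hs : RepWith @Surjective q) (hP : ∀ W : V.left.Opens, IsAffineOpen W → ProjAt G (openObj q hq W))
    {E : EtOver X} (hE : Aff E) : ∃ d : Cov E, ∀ i, ProjAt ((pullModEt hrep).obj G) (d.T i).left := by
  have hR : Sieve.generate (fun T => {_g : T ⟶ E | ∃ W : V.left.Opens, IsAffineOpen W ∧
      Nonempty (T ⟶ (EtOver.bc hrep).obj (openObj q hq W))}) ∈ etTop X E := mem_etTop_of_exists _ fun t => by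
    obtain ⟨W, hW, T, g, k, ht⟩ := exists_bc_point hrep q hq hs E t
    exact ⟨T, g, Sieve.le_generate _ _ _ ⟨W, hW, ⟨k⟩⟩, ht⟩
  obtain ⟨d, hd⟩ := exists_cov hE hR
  refine ⟨d, fun i => ?_⟩
  obtain ⟨T, a, g, ⟨W, hW, ⟨k⟩⟩, -⟩ := hd i
  exact projAt_bc hrep G (aff_openObj q hq hW) (hP W hW) (Over.mk (a ≫ k)) (d.aff i)

end Groth.Agent.ProjDescent13

end
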